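import Cfsg.Agent.H13.Sink.Stmts
import Cfsg.Agent.H13.Sink.Basic

/-!
The periodic points generate a subgroup normalised by `F*`, depending on `d` only modulo `F`.
-/

set_option autoImplicit false

namespace H53.Sink

open H13.Sink Function

universe u

variable {G : Type u} [Group G]

/-- `J` acts on itself in Engel fashion modulo `Y`. -/
def EngelMod (J Y : Subgroup G) : Prop := ∀ e ∈ J, ∀ g ∈ J, ∃ n, (phi e)^[n] g ∈ Y

/-- `J` contains `sT d`, normalises `sinkGrp d` and is Engel modulo it. -/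
def Good (d : G) (J : Subgroup G) : Prop :=
  sT d ≤ J ∧ J ≤ Subgroup.normalizer (sinkGrp d : Set G) ∧ EngelMod J (sinkGrp d)

theorem phi_mem {e y : G} {Y : Subgroup G} (he : e ∈ Subgroup.normalizer (Y : Set G)) (hy : y ∈ Y) :
    phi e y ∈ Y := by
  have h := mul_mem hy ((Subgroup.mem_normalizer_iff.1 he y⁻¹).1 (inv_mem hy))
  simpa [phi, mul_assoc] using h

theorem iterate_phi_mem {e y : G} {Y : Subgroup G} (he : e ∈ Subgroup.normalizer (Y : Set G))
    (hy : y ∈ Y) (k : ℕ) : (phi e)^[k] y ∈ Y := by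
  induction k with
  | zero => exact hy
  | succ k ih => rw [iterate_succ_apply']; exact phi_mem he ih

/-- The periodic points of `e` in an Engel group modulo `Y` lie in `Y`. -/
theorem sinkGrp_le_of_engel {e : G} {J Y : Subgroup G} (he : e ∈ J) (hs : sink e ⊆ J)
    (hY : e ∈ Subgroup.normalizer (Y : Set G)) (hP : EngelMod J Y) : sinkGrp e ≤ Y := by
  refine (Subgroup.closure_le Y).2 fun x hx => ?_
  obtain ⟨n, hn⟩ := hP e he x (hs hx)
  obtain ⟨m, hm, hx'⟩ := hx
  have hmn : n ≤ m * n := Nat.le_mul_of_pos_left n hm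
  have h1 : (phi e)^[m * n] x = x := (hx'.mul_const n).eq
  rw [SetLike.mem_coe, ← h1, show m * n = (m * n - n) + n by omega, iterate_add_apply]
  exact iterate_phi_mem hY hn _

theorem engelMod_conj {J Y : Subgroup G} {g : G}
    (hg : J.map (MulAut.conj g).toMonoidHom = J) (hP : EngelMod J Y) :
    EngelMod J (Y.map (MulAut.conj g).toMonoidHom) := by
  intro e he x hx
  rw [← hg] at he hx
  obtain ⟨e', he', rfl⟩ := he
  obtain ⟨x', hx', rfl⟩ := hx
  obtain ⟨n, hn⟩ := hP e' he' x' hx'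
  exact ⟨n, (phi e')^[n] x', hn, iterate_phi_map _ _ _ n⟩

theorem sT_le_normalizer (d : G) : sT d ≤ Subgroup.normalizer (sinkGrp d : Set G) :=
  sT_le_iff.2 ⟨mem_normalizer_sinkGrp d,
    fun _ hx => Subgroup.le_normalizer (Subgroup.subset_closure hx)⟩

theorem good_sT (d : G) : Good d (sT d) := by
  have hd : Subgroup.zpowers d ≤ Subgroup.normalizer (sinkGrp d : Set G) :=
    Subgroup.zpowers_le.2 (mem_normalizer_sinkGrp d)
  have hdec : ∀ g ∈ sT d, ∃ x ∈ sinkGrp d, ∃ i : ℤ, g = x * d ^ i := by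
    intro g hg
    have h : g ∈ ((sinkGrp d ⊔ Subgroup.zpowers d : Subgroup G) : Set G) := sT_le_sup d hg
    rw [sup_comm, Subgroup.coe_mul_of_left_le_normalizer_right _ _ hd] at h
    obtain ⟨a, ha, x, hx, rfl⟩ := Set.mem_mul.1 h
    obtain ⟨i, rfl⟩ := Subgroup.mem_zpowers_iff.1 ha
    exact ⟨d ^ i * x * (d ^ i)⁻¹, (Subgroup.mem_normalizer_iff.1 (hd ha) x).1 hx, i, by group⟩
  refine ⟨le_rfl, sT_le_normalizer d, fun e he g hg => ⟨1, ?_⟩⟩
  obtain ⟨x, hx, i, rfl⟩ := hdec g hg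
  obtain ⟨y, hy, j, rfl⟩ := hdec e he
  have hn : ∀ k : ℤ, ∀ z ∈ sinkGrp d, d ^ k * z * (d ^ k)⁻¹ ∈ sinkGrp d := fun k z hz =>
    (Subgroup.mem_normalizer_iff.1 (hd (zpow_mem (Subgroup.mem_zpowers d) k)) z).1 hz
  have e1 : phi (y * d ^ j) (x * d ^ i) =
      x * (d ^ i * y * (d ^ i)⁻¹) * (d ^ j * x⁻¹ * (d ^ j)⁻¹) * y⁻¹ := by
    unfold phi; group
  rw [iterate_one, e1]
  exact mul_mem (mul_mem (mul_mem hx (hn i y hy)) (hn j x⁻¹ (inv_mem hx))) (inv_mem hy)

variable [Finite G]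

theorem engel_iterate_eq {Q : Type u} [Group Q] [Finite Q] {q : Q}
    (hq : q ∈ Cfsg.fittingSubgroup Q) (x : Q) : ∃ n, (phi q)^[n] x = 1 := by
  obtain ⟨n, hn⟩ := H35.engel_eventually_one_of_mem_fitting hq x
  exact ⟨n, (engel_eq_iterate q x n).symm.trans hn⟩

/-- One step up a subnormal chain. -/
theorem good_step {d : G} {W J J₁ : Subgroup G} [W.Normal] (hW : Group.IsNilpotent ↥W)
    (hJ : Good d J) (hle : J ≤ J₁) (hn : J₁ ≤ Subgroup.normalizer (J : Set G))
    (hdec : ∀ g ∈ J₁, ∃ w ∈ W, ∃ t ∈ J, w * t = g) : Good d J₁ := by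
  obtain ⟨hT, hJN, hP⟩ := hJ
  have hdJ : d ∈ J := hT (mem_sT_self d)
  have hsJ : sink d ⊆ J := fun x hx => hT (sink_subset_sT d hx)
  have hnorm : J₁ ≤ Subgroup.normalizer (sinkGrp d : Set G) := by
    intro g hg
    have hgJ : J.map (MulAut.conj g).toMonoidHom = J :=
      Cfsg.Comp.map_conj_eq_of_mem_normalizer (hn hg)
    have hJY : J ≤ Subgroup.normalizer
        (((sinkGrp d).map (MulAut.conj g).toMonoidHom : Subgroup G) : Set G) := by
      calc J = J.map (MulAut.conj g).toMonoidHom := hgJ.symm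
        _ ≤ (Subgroup.normalizer (sinkGrp d : Set G)).map (MulAut.conj g).toMonoidHom :=
            Subgroup.map_mono hJN
        _ ≤ _ := Subgroup.le_normalizer_map _
    have h1 := sinkGrp_le_of_engel hdJ hsJ (hJY hdJ) (engelMod_conj hgJ hP)
    refine Cfsg.Comp.mem_normalizer_of_map_conj_eq
      (Subgroup.eq_of_le_of_card_ge h1 (le_of_eq ?_)).symm
    exact Subgroup.card_map_of_injective (MulAut.conj g).injective
  refine ⟨hT.trans hle, hnorm, ?_⟩
  set X' := (sinkGrp d).subgroupOf J₁ with hX'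
  haveI : X'.Normal := Subgroup.normal_subgroupOf_of_le_normalizer hnorm
  set π := QuotientGroup.mk' X' with hπ
  have hπs : Surjective π := QuotientGroup.mk'_surjective _
  haveI hJn : (J.subgroupOf J₁).Normal := Subgroup.normal_subgroupOf_of_le_normalizer hn
  haveI : ((J.subgroupOf J₁).map π).Normal := hJn.map π hπs
  have hJF : (J.subgroupOf J₁).map π ≤ Cfsg.fittingSubgroup _ := by
    rintro _ ⟨a, ha, rfl⟩
    refine H35.mem_fitting_of_engel _ fun x => ?_
    have hx : phi (π a) x ∈ (J.subgroupOf J₁).map π := by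
      have h := mul_mem ((‹((J.subgroupOf J₁).map π).Normal›).conj_mem _
        (Subgroup.mem_map_of_mem π ha) x) (inv_mem (Subgroup.mem_map_of_mem π ha))
      exact h
    obtain ⟨b, hb, hbx⟩ := hx
    obtain ⟨n, hn'⟩ := hP (a : G) (Subgroup.mem_subgroupOf.1 ha) (b : G) (Subgroup.mem_subgroupOf.1 hb)
    refine ⟨n + 1, ?_⟩
    rw [engel_eq_iterate, iterate_succ_apply, ← hbx, ← iterate_phi_map, hπ,
      QuotientGroup.mk'_apply, QuotientGroup.eq_one_iff, hX', Subgroup.mem_subgroupOf,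
      ← Subgroup.coe_subtype, iterate_phi_map]
    exact hn'
  have hWF : (W.subgroupOf J₁).map π ≤ Cfsg.fittingSubgroup _ := by
    haveI := hW
    haveI h1 : Group.IsNilpotent ↥((W ⊓ J₁).subgroupOf W) := inferInstance
    haveI h2 : Group.IsNilpotent ↥(W ⊓ J₁ : Subgroup G) :=
      Group.nilpotent_of_mulEquiv (Subgroup.subgroupOfEquivOfLe inf_le_left)
    haveI h3 : Group.IsNilpotent ↥(W.subgroupOf J₁) := by
      rw [← Subgroup.inf_subgroupOf_right]
      exact Group.nilpotent_of_mulEquiv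
        (Subgroup.subgroupOfEquivOfLe (inf_le_right : W ⊓ J₁ ≤ J₁)).symm
    exact Cfsg.Comp.le_fitting_of_subnormal
      ((inferInstance : (W.subgroupOf J₁).Normal).map π hπs).isSubnormal
      (Group.nilpotent_of_surjective (π.subgroupMap _) (π.subgroupMap_surjective _))
  intro e he g hg
  obtain ⟨w, hw, t, ht, hwt⟩ := hdec e he
  have hwJ : w ∈ J₁ := by
    have : w = e * t⁻¹ := by rw [← hwt, mul_inv_cancel_right]
    rw [this]
    exact mul_mem he (inv_mem (hle ht))
  have heF : π ⟨e, he⟩ ∈ Cfsg.fittingSubgroup _ := by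
    have e1 : (⟨e, he⟩ : J₁) = ⟨w, hwJ⟩ * ⟨t, hle ht⟩ := Subtype.ext hwt.symm
    rw [e1, map_mul]
    exact mul_mem (hWF (Subgroup.mem_map_of_mem π (show (⟨w, hwJ⟩ : J₁) ∈ W.subgroupOf J₁ from hw)))
      (hJF (Subgroup.mem_map_of_mem π (show (⟨t, hle ht⟩ : J₁) ∈ J.subgroupOf J₁ from ht)))
  obtain ⟨n, hn'⟩ := engel_iterate_eq heF (π ⟨g, hg⟩)
  refine ⟨n, ?_⟩
  rw [← iterate_phi_map, hπ, QuotientGroup.mk'_apply, QuotientGroup.eq_one_iff, hX',
    Subgroup.mem_subgroupOf, ← Subgroup.coe_subtype, iterate_phi_map] at hn'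
  exact hn'

/-- `sT d` enlarged by a nilpotent normal subgroup is still good. -/
theorem good_sup {d : G} (hd : (sT d).IsSubnormal) {W : Subgroup G} [W.Normal]
    (hW : Group.IsNilpotent ↥W) : Good d (sT d ⊔ W) := by
  have key : ∀ T' : Subgroup G, T'.IsSubnormal → sT d ≤ T' →
      Good d (T' ⊓ (sT d ⊔ W)) → Good d (sT d ⊔ W) := by
    intro T' hT'
    induction hT' with
    | top => intro _ h; rwa [top_inf_eq] at h
    | step T'' K hle _ hN ih =>
      intro hT h
      refine ih (hT.trans hle) (good_step hW h (inf_le_inf_right _ hle) ?_ fun g hg => ?_)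
      · exact Cfsg.Comp.inf_le_normalizer
          (inf_le_left.trans ((Subgroup.normal_subgroupOf_iff_le_normalizer hle).1 hN))
          (inf_le_right.trans Subgroup.le_normalizer)
      · obtain ⟨w, hw, t, ht, e⟩ :=
          Subgroup.mem_sup_of_normal_left.1 (show g ∈ W ⊔ sT d from sup_comm W (sT d) ▸ hg.2)
        exact ⟨w, hw, t, ⟨hT ht, Subgroup.mem_sup_left ht⟩, e⟩
  refine key (sT d) hd le_rfl ?_
  rw [inf_eq_left.2 le_sup_left]
  exact good_sT d

theorem sinkGrp_le_of_mul_inv {d e : G} (hd : (sT d).IsSubnormal)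
    (he : e * d⁻¹ ∈ Cfsg.fittingSubgroup G) : sinkGrp e ≤ sinkGrp d := by
  haveI hFn : (Cfsg.fittingSubgroup G).Normal := inferInstance
  obtain ⟨-, hN, hP⟩ := good_sup hd (W := Cfsg.fittingSubgroup G) Cfsg.Comp.fitting_isNilpotent
  have hS : (sT d ⊔ Cfsg.fittingSubgroup G).IsSubnormal := by
    have h := (hd.map (QuotientGroup.mk'_surjective (Cfsg.fittingSubgroup G))).comap
      (QuotientGroup.mk' (Cfsg.fittingSubgroup G))
    rwa [Subgroup.comap_map_eq, QuotientGroup.ker_mk'] at h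
  have heS : e ∈ sT d ⊔ Cfsg.fittingSubgroup G := by
    have h := mul_mem (Subgroup.mem_sup_right he : e * d⁻¹ ∈ sT d ⊔ Cfsg.fittingSubgroup G)
      (Subgroup.mem_sup_left (mem_sT_self d))
    rwa [inv_mul_cancel_right] at h
  exact sinkGrp_le_of_engel heS (sink_subset_of_subnormal hS heS) (hN heS) hP

theorem cell : CellStmt.{u} := by
  intro A _ _ hA d
  haveI hFn : (Cfsg.fittingSubgroup A).Normal := inferInstance
  obtain ⟨-, hN, -⟩ := good_sup (hA d) (W := Cfsg.fittingSubgroup A) Cfsg.Comp.fitting_isNilpotent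
  have heq : ∀ e : A, e * d⁻¹ ∈ Cfsg.fittingSubgroup A → sinkGrp e = sinkGrp d := fun e he =>
    le_antisymm (sinkGrp_le_of_mul_inv (hA d) he)
      (sinkGrp_le_of_mul_inv (hA e) (by simpa using inv_mem he))
  refine ⟨sup_le ?_ (le_sup_right.trans hN), heq, fun g hg => ?_⟩
  · rw [Cfsg.Comp.layer_le_iff]
    intro L hL
    rcases Cfsg.Comp.component_le_or_commute hL (hA d) with h | h
    · exact h.trans (sT_le_normalizer d)
    · refine le_trans ?_ (Subgroup.centralizer_le_normalizer _)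
      refine Cfsg.Comp.le_centralizer_of_commute fun x hx y hy => ?_
      exact Cfsg.Comp.commute_of_commutator_eq_bot h hx (sinkGrp_le_sT d hy)
  · refine Cfsg.Comp.mem_normalizer_of_map_conj_eq ?_
    rw [map_conj_sinkGrp]
    exact heq _ hg

end H53.Sink
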