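import Cfsg.Agent.H13.Sink.Stmts
import Cfsg.Agent.H13.Sink.Basic

/-!
Iterated commutators with a generating automorphism generate.
-/

set_option autoImplicit false
set_option linter.style.haveILetI false

namespace H53.Sink

open H13.Sink Function

universe u

theorem iterate_generates (hM : H13.Sink.MainStmt.{u}) {G : Type u} [Group G] [Finite G]
    (α : MulAut G) (hG : Subgroup.closure (Set.range (fun c : G => c * (α c)⁻¹)) = ⊤) (k : ℕ)
    (_hk : 1 ≤ k) :
    Subgroup.closure (Set.range ((fun c : G => c * (α c)⁻¹)^[k])) = ⊤ := by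
  haveI : Finite (MulAut G) :=
    Finite.of_injective (fun β : MulAut G => (β : G → G)) DFunLike.coe_injective
  let φ : Subgroup.zpowers α →* MulAut G := (Subgroup.zpowers α).subtype
  let X := G ⋊[φ] Subgroup.zpowers α
  haveI : Finite X := Finite.of_equiv _ SemidirectProduct.equivProd.symm
  let a : Subgroup.zpowers α := ⟨α, Subgroup.mem_zpowers α⟩
  let d : X := SemidirectProduct.inr a
  set f : G → G := fun c => c * (α c)⁻¹ with hf
  have haut : ∀ c : G, d * SemidirectProduct.inl c * d⁻¹ = (SemidirectProduct.inl (α c) : X) := by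
    intro c
    have h := SemidirectProduct.inl_aut (φ := φ) a c
    rw [map_inv] at h
    exact h.symm
  have hphi : ∀ c : G, phi d (SemidirectProduct.inl c : X) = SemidirectProduct.inl (f c) := by
    intro c
    calc phi d (SemidirectProduct.inl c : X)
        = SemidirectProduct.inl c * (d * SemidirectProduct.inl c * d⁻¹)⁻¹ := by
          rw [phi, _root_.mul_inv_rev, _root_.mul_inv_rev, inv_inv]; simp only [mul_assoc]
      _ = _ := by rw [haut, ← map_inv, ← map_mul]
  have hright : ∀ s : X, ∃ j : ℤ, (SemidirectProduct.inr s.right : X) = d ^ j := by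
    intro s
    obtain ⟨j, hj⟩ := Subgroup.mem_zpowers_iff.1 s.right.2
    refine ⟨j, ?_⟩
    have he : s.right = a ^ j := Subtype.ext (by rw [Subgroup.coe_zpow]; exact hj.symm)
    rw [he, map_zpow]
  have hphi' : ∀ s : X, phi d s = SemidirectProduct.inl (f s.left) := by
    intro s
    obtain ⟨j, hj⟩ := hright s
    rw [← hphi]
    conv_lhs => rw [← SemidirectProduct.inl_left_mul_inr_right s, hj]
    unfold phi
    group
  have hdN : d ∈ Subgroup.normalClosure ({d} : Set X) := Subgroup.subset_normalClosure rfl
  have hnc : Subgroup.normalClosure ({d} : Set X) = ⊤ := by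
    rw [eq_top_iff]
    intro s _
    have hl : ∀ c : G, (SemidirectProduct.inl c : X) ∈ Subgroup.normalClosure ({d} : Set X) := by
      intro c
      have hc : c ∈ (Subgroup.normalClosure ({d} : Set X)).comap SemidirectProduct.inl := by
        refine (Subgroup.closure_le _).2 ?_ (hG ▸ Subgroup.mem_top c)
        rintro _ ⟨b, rfl⟩
        show (SemidirectProduct.inl (f b) : X) ∈ Subgroup.normalClosure ({d} : Set X)
        rw [← hphi]
        exact mul_mem (Subgroup.normalClosure_normal.conj_mem d hdN _) (inv_mem hdN)
      exact hc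
    rw [← SemidirectProduct.inl_left_mul_inr_right s]
    obtain ⟨j, hj⟩ := hright s
    exact mul_mem (hl _) (hj ▸ zpow_mem hdN j)
  have hT : sT d = ⊤ := by
    rcases (hM X d).lt_normal with h | ⟨N, hN, hle, hlt⟩
    · exact h
    · exact absurd (hnc ▸ Subgroup.normalClosure_le_normal (Set.singleton_subset_iff.2
        (hle (mem_sT_self d)))) hlt.not_ge
  set K : Subgroup G := Subgroup.closure (Set.range f^[k]) with hK
  have hKα : ∀ g ∈ K, α g ∈ K := by
    intro g hg
    have h : g ∈ K.comap α.toMonoidHom := by
      refine (Subgroup.closure_le _).2 ?_ hg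
      rintro _ ⟨c, rfl⟩
      show α (f^[k] c) ∈ K
      refine Subgroup.subset_closure ⟨α c, ?_⟩
      have hsc : Semiconj α f f := fun x => by simp [hf]
      exact ((hsc.iterate_right k) c).symm
    exact h
  have hKβ : ∀ β : Subgroup.zpowers α, ∀ g ∈ K, φ β g ∈ K := by
    intro β g hg
    obtain ⟨i, hi⟩ := (mem_powers_iff_mem_zpowers).2 β.2
    have hi' : (φ β : MulAut G) = α ^ i := hi.symm
    rw [hi']
    clear hi hi'
    induction i with
    | zero => simpa using hg
    | succ i ih => rw [pow_succ']; exact hKα _ ih
  let T : Subgroup X :=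
    { carrier := {s | s.left ∈ K}
      one_mem' := one_mem K
      mul_mem' := fun {x y} hx hy => by
        show (x * y).left ∈ K
        rw [SemidirectProduct.mul_left]
        exact mul_mem hx (hKβ _ _ hy)
      inv_mem' := fun {x} hx => by
        show x⁻¹.left ∈ K
        rw [SemidirectProduct.inv_left]
        exact hKβ _ _ (inv_mem hx) }
  have hle : sT d ≤ T := by
    refine sT_le_iff.2 ⟨?_, fun x hx => ?_⟩
    · show d.left ∈ K
      exact one_mem K
    · obtain ⟨y, -, rfl⟩ := exists_iterate_eq hx (k + 1)
      show ((phi d)^[k + 1] y).left ∈ K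
      have hit : ∀ i (c : G), (phi d)^[i] (SemidirectProduct.inl c : X) =
          SemidirectProduct.inl (f^[i] c) := by
        intro i c
        exact ((show Semiconj (SemidirectProduct.inl : G → X) f (phi d) from
          fun b => (hphi b).symm).iterate_right i c).symm
      rw [iterate_succ_apply, hphi', hit, SemidirectProduct.left_inl, ← iterate_succ_apply,
        iterate_succ_apply' f k]
      have : f (f^[k] y.left) = f^[k] (f y.left) := by
        rw [← iterate_succ_apply' f k, iterate_succ_apply]
      rw [this]
      exact Subgroup.subset_closure ⟨_, rfl⟩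
  rw [eq_top_iff]
  intro g _
  have h : (SemidirectProduct.inl g : X) ∈ T := hle (hT ▸ Subgroup.mem_top _)
  exact h

end H53.Sink
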